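import Groth.Agent.BddFin.Division
import Mathlib.FieldTheory.SplittingField.Construction
import Mathlib.Tactic.Module
import Mathlib.Tactic.IntervalCases
import Mathlib.Tactic.LinearCombination
import Mathlib.Algebra.Field.ZMod
import Mathlib.FieldTheory.Finite.Basic

/-!
Division algebras of degree `p` in characteristic `p`: Galois subfields and inseparable elements
(`p` arbitrary for the implications, `p = 2, 3` for existence).
-/

universe u v

namespace Groth.Agent.BddFin

open Polynomial

variable {K : Type u} [Field K] {A : Type v} [DivisionRing A] [Algebra K A]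

theorem adjoin_isField [FiniteDimensional K A] (x : A) :
    IsField (Algebra.adjoin K ({x} : Set A)) where
  exists_pair_ne := ⟨0, 1, zero_ne_one⟩
  mul_comm y z := Subtype.ext <| ((Algebra.commute_of_mem_adjoin_singleton_of_commute z.2
    (Algebra.commute_of_mem_adjoin_self y.2).symm).eq)
  mul_inv_cancel {y} hy := by
    letI := divisionRingOfFiniteDimensional K (Algebra.adjoin K ({x} : Set A))
    exact ⟨y⁻¹, mul_inv_cancel₀ hy⟩

theorem adjoin_generator_eq_top (x : A) :
    Algebra.adjoin K ({⟨x, Algebra.self_mem_adjoin_singleton K x⟩} :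
      Set (Algebra.adjoin K ({x} : Set A))) = ⊤ := by
  apply Subalgebra.map_injective (f := (Algebra.adjoin K ({x} : Set A)).val) Subtype.val_injective
  rw [AlgHom.map_adjoin, Algebra.map_top, Subalgebra.range_val]
  simp

/-- `K[x]` as an abstract field with an embedding. -/
theorem exists_subfield [FiniteDimensional K A] (x : A) :
    ∃ (L : Type v) (_ : Field L) (_ : Algebra K L) (ι : L →ₐ[K] A) (a : L), ι a = x ∧
      Algebra.adjoin K ({a} : Set L) = ⊤ ∧ aeval a (minpoly K x) = 0 ∧
      Module.finrank K L = (minpoly K x).natDegree ∧ ι.range = Algebra.adjoin K {x} := by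
  refine ⟨_, (adjoin_isField x).toField, inferInstance, (Algebra.adjoin K ({x} : Set A)).val,
    ⟨x, Algebra.self_mem_adjoin_singleton K x⟩, rfl, adjoin_generator_eq_top x, ?_,
    (natDegree_minpoly_eq x).symm, Subalgebra.range_val _⟩
  refine Subtype.val_injective ?_
  have h := aeval_algHom_apply (Algebra.adjoin K ({x} : Set A)).val
    (⟨x, Algebra.self_mem_adjoin_singleton K x⟩ : Algebra.adjoin K ({x} : Set A)) (minpoly K x)
  exact h.symm.trans (minpoly.aeval K x)

theorem isGalois_of_splits {L : Type v} [Field L] [Algebra K L] {f : K[X]} (hf : f.Separable)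
    {a : L} (htop : Algebra.adjoin K ({a} : Set L) = ⊤) (ha : aeval a f = 0)
    (hsplit : (f.map (algebraMap K L)).Splits) : IsGalois K L := by
  haveI : Polynomial.IsSplittingField K L f := by
    refine ⟨hsplit, eq_top_iff.2 ?_⟩
    rw [← htop]
    exact Algebra.adjoin_mono (Set.singleton_subset_iff.2 (mem_rootSet.2 ⟨hf.ne_zero, ha⟩))
  exact IsGalois.of_separable_splitting_field (p := f) hf

/-- (1) ⇒ (2). -/
theorem exists_commutator_eq_one [FiniteDimensional K A] [Algebra.IsCentral K A] (p : ℕ)
    [Fact p.Prime] [CharP K p] (hA : Module.finrank K A = p ^ 2) {v : A} (hv : ¬ IsSeparable K v) :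
    ∃ v u : A, v ^ p ∈ (algebraMap K A).range ∧ u ^ p ∈ (algebraMap K A).range ∧
      v * u - u * v = 1 ∧ Algebra.adjoin K {v, u} = ⊤ := by
  have hp : p.Prime := Fact.out
  haveI : Nontrivial A := inferInstance
  haveI : CharP A p := charP_of_injective_algebraMap (algebraMap K A).injective p
  have hvK : v ∉ (algebraMap K A).range := by
    rintro ⟨c, rfl⟩
    exact hv (isSeparable_algebraMap c)
  obtain ⟨w, hw⟩ := exists_not_commute (K := K) hvK
  have hdeg := natDegree_minpoly_eq_prime hp hA hw
  have hint := Algebra.IsIntegral.isIntegral (R := K) v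
  have hirr := minpoly.irreducible hint
  have hder : derivative (minpoly K v) = 0 := by
    by_contra h
    exact hv ((Polynomial.separable_iff_derivative_ne_zero hirr).2 h)
  have hexp := Polynomial.expand_contract p hder hp.ne_zero
  have hg : (contract p (minpoly K v)).natDegree = 1 := by
    have h := congrArg natDegree hexp
    rw [natDegree_expand, hdeg] at h
    exact Nat.eq_of_mul_eq_mul_right hp.pos (h.trans (one_mul p).symm)
  have hmon : (contract p (minpoly K v)).Monic := by
    rw [← monic_expand_iff hp.pos, hexp]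
    exact minpoly.monic hint
  obtain ⟨c, hc⟩ : v ^ p ∈ (algebraMap K A).range := by
    refine ⟨-(contract p (minpoly K v)).coeff 0, ?_⟩
    have h := minpoly.aeval K v
    rw [← hexp, expand_aeval, hmon.eq_X_add_C hg] at h
    simp only [map_add, aeval_C, aeval_X] at h
    rw [map_neg]
    exact (eq_neg_of_add_eq_zero_left h).symm
  -- the derivation `[v, ·]` is nilpotent
  let T : Module.End K A := LinearMap.mulLeft K v - LinearMap.mulRight K v
  have hT : ∀ a, T a = v * a - a * v := fun a => rfl
  haveI : CharP (Module.End K A) p :=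
    charP_of_injective_algebraMap (FaithfulSMul.algebraMap_injective K (Module.End K A)) p
  have hTp : T ^ p = 0 := by
    rw [sub_pow_char_of_commute (R := Module.End K A) (p := p) (LinearMap.commute_mulLeft_right v v),
      LinearMap.pow_mulLeft, LinearMap.pow_mulRight, ← hc, sub_eq_zero]
    exact LinearMap.ext fun a => Algebra.commutes c a
  classical
  have hex : ∃ n, (T ^ n) w = 0 := ⟨p, by rw [hTp, LinearMap.zero_apply]⟩
  set n := Nat.find hex with hn
  have hn0 : n ≠ 0 := by
    intro h
    have := Nat.find_spec hex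
    rw [← hn, h, pow_zero, Module.End.one_apply] at this
    exact hw (by rw [this]; exact Commute.zero_right _)
  have hn1 : n ≠ 1 := by
    intro h
    have := Nat.find_spec hex
    rw [← hn, h, pow_one, hT, sub_eq_zero] at this
    exact hw this
  obtain ⟨m, hm⟩ : ∃ m, n = m + 2 := ⟨n - 2, by omega⟩
  set a := (T ^ m) w
  set b := T a with hb
  have hb0 : b ≠ 0 := by
    have h := Nat.find_min hex (show m + 1 < Nat.find hex by omega)
    rwa [pow_succ', Module.End.mul_apply] at h
  have hvb : v * b = b * v := by
    have h := Nat.find_spec hex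
    rw [← hn, hm, pow_succ', Module.End.mul_apply, pow_succ', Module.End.mul_apply, hT] at h
    exact sub_eq_zero.1 h
  set u := b⁻¹ * a
  have huv : v * u - u * v = 1 := by
    have hvb' : Commute v b⁻¹ := Commute.inv_right₀ hvb
    rw [← mul_assoc, hvb'.eq, mul_assoc, mul_assoc, ← mul_sub, ← hT, ← hb, inv_mul_cancel₀ hb0]
  have hncomm : ¬ Commute v u := fun h => one_ne_zero (α := A) (by rw [← huv, h.eq, sub_self])
  have hup : u ^ p ∈ (algebraMap K A).range := by
    refine mem_range_of_commute hp hA hncomm ?_ (Commute.self_pow u p)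
    have h : ∀ n : ℕ, v * u ^ n = u ^ n * v + (n : A) * u ^ (n - 1) := by
      intro n
      induction n with
      | zero => simp
      | succ n ih =>
        rw [pow_succ, ← mul_assoc, ih, add_mul, mul_assoc _ v u, sub_eq_iff_eq_add'.1 huv,
          mul_add, mul_one, ← mul_assoc, Nat.cast_succ, add_mul, one_mul, Nat.add_sub_cancel]
        rcases n with _ | n
        · simp
        · rw [Nat.add_sub_cancel, mul_assoc _ (u ^ n) u]
          simp only [← pow_succ]
          abel
    have hp0 := h p
    rwa [CharP.cast_eq_zero, zero_mul, add_zero] at hp0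
  exact ⟨v, u, ⟨c, hc⟩, hup, huv,
    eq_top_of_not_commute hp hA _ (Algebra.subset_adjoin (by simp)) (Algebra.subset_adjoin (by simp)) hncomm⟩

/-- (2) ⇒ (3). -/
theorem exists_galois_of_commutator_eq_one [FiniteDimensional K A] [Algebra.IsCentral K A] (p : ℕ)
    [Fact p.Prime] [CharP K p] (hA : Module.finrank K A = p ^ 2) {v u : A}
    (hv : v ^ p ∈ (algebraMap K A).range) (hvu : v * u - u * v = 1) :
    ∃ (L : Type v) (_ : Field L) (_ : Algebra K L), IsGalois K L ∧ Module.finrank K L = p ∧
      Nonempty (L →ₐ[K] A) := by
  have hp : p.Prime := Fact.out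
  haveI : CharP A p := charP_of_injective_algebraMap (algebraMap K A).injective p
  have hvu' : v * u = u * v + 1 := sub_eq_iff_eq_add'.1 hvu
  set w := v * u with hw
  have hv0 : v ≠ 0 := fun h => by simp [hw, h] at hvu
  have hu0 : u ≠ 0 := fun h => by simp [hw, h] at hvu
  have hvw : v * w = (w + 1) * v := by
    rw [show (w + 1) * v = v * (u * v + 1) by rw [hw]; simp [mul_add, add_mul, mul_assoc]]
    rw [← hvu']
  have huw : u * w = (w - 1) * u := by
    calc u * w = (u * v) * u := by rw [hw, mul_assoc]
      _ = (w - 1) * u := by rw [hvu', add_sub_cancel_right]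
  have hwv : ¬ Commute w v := fun h => hv0 (by
    have h2 := h.eq.trans hvw
    rw [add_mul, one_mul] at h2
    exact left_eq_add.1 h2)
  have hvv : v * (w ^ p - w) = (w ^ p - w) * v := by
    have h1 : SemiconjBy v w (w + 1) := hvw
    have h2 := (h1.pow_right p).eq
    rw [add_pow_char_of_commute (R := A) (p := p) (Commute.one_right w), one_pow] at h2
    rw [mul_sub, h2, hvw, sub_mul, add_mul, add_mul, add_sub_add_right_eq_sub]
  have huu : u * (w ^ p - w) = (w ^ p - w) * u := by
    have h1 : SemiconjBy u w (w - 1) := huw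
    have h2 := (h1.pow_right p).eq
    rw [sub_pow_char_of_commute (R := A) (p := p) (Commute.one_right w), one_pow] at h2
    rw [mul_sub, h2, huw, sub_mul, sub_mul, sub_mul, sub_sub_sub_cancel_right]
  have hncomm : ¬ Commute v u := fun h => one_ne_zero (α := A) (by rw [← hvu, hw, h.eq, sub_self])
  obtain ⟨c, hc⟩ := mem_range_of_commute hp hA hncomm hvv huu
  have hdeg := natDegree_minpoly_eq_prime hp hA hwv
  have hint := Algebra.IsIntegral.isIntegral (R := K) w
  set f : K[X] := X ^ p - X - C c with hf
  have hfm : f.Monic := by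
    rw [hf, sub_sub]
    exact monic_X_pow_sub ((degree_add_le _ _).trans_lt (by
      simp only [degree_X]
      exact max_lt (by exact_mod_cast hp.one_lt) (degree_C_le.trans_lt (by exact_mod_cast hp.pos))))
  have hfd : f.natDegree = p := by
    rw [hf, natDegree_sub_C, natDegree_sub_eq_left_of_natDegree_lt] <;> simp [hp.one_lt]
  have hmin : minpoly K w = f := by
    refine (eq_of_monic_of_dvd_of_natDegree_le (minpoly.monic hint) hfm
      (minpoly.dvd K w ?_) (by rw [hfd, hdeg])).symm
    simp [hf, hc]
  have hsep : IsSeparable K w := by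
    rw [IsSeparable, hmin, hf]
    rw [Polynomial.separable_def]
    simp [derivative_sub, derivative_X_pow, CharP.cast_eq_zero]
    exact isCoprime_one_right.neg_right
  obtain ⟨L, iF, iA, ι, a, hιa, htop, ha, hL, -⟩ := exists_subfield (K := K) w
  rw [hmin] at ha
  haveI : CharP L p := charP_of_injective_algebraMap (algebraMap K L).injective p
  refine ⟨L, iF, iA, isGalois_of_splits (f := f) ?_ htop ha ?_, hL.trans hdeg, ⟨ι⟩⟩
  · rw [← hmin]; exact hsep
  classical
  have hroot : ∀ i : ZMod p, (f.map (algebraMap K L)).eval (a + ZMod.castHom dvd_rfl L i) = 0 := by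
    intro i
    have hga : a ^ p - a - algebraMap K L c = 0 := by simpa [hf] using ha
    rw [hf]
    simp only [Polynomial.map_sub, Polynomial.map_pow, map_X, map_C, eval_sub, eval_pow, eval_X,
      eval_C, add_pow_char, ← map_pow, ZMod.pow_card, add_sub_add_right_eq_sub]
    exact hga
  have hinj : Function.Injective fun i : ZMod p => a + ZMod.castHom dvd_rfl L i := fun i j h =>
    (ZMod.castHom dvd_rfl L).injective (add_left_cancel h)
  refine splits_iff_card_roots.2 (le_antisymm (card_roots' _) ?_)
  rw [natDegree_map, hfd]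
  calc p = (Finset.univ.image fun i : ZMod p => a + ZMod.castHom dvd_rfl L i).card := by
          rw [Finset.card_image_of_injective _ hinj, Finset.card_univ, ZMod.card]
    _ ≤ (f.map (algebraMap K L)).roots.toFinset.card := Finset.card_le_card fun z hz => by
          obtain ⟨i, -, rfl⟩ := Finset.mem_image.1 hz
          rw [Multiset.mem_toFinset, mem_roots (hfm.map _).ne_zero]
          exact hroot i
    _ ≤ _ := Multiset.toFinset_card_le _

/-- Wedderburn's identities for a cubic. -/
theorem wedderburn_cubic (a b : K) {x z : A}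
    (hxz : z * z + x * z - a • z + b • (1 : A) - a • x + x * x = 0) :
    z * z * z - a • (z * z) + b • z = x * x * x - a • (x * x) + b • x →
      (x * z - z * x) * x = z * (x * z - z * x) ∧
      (x * z - z * x) * z = (a • 1 - x - z) * (x * z - z * x) ∧
      (x * z - z * x) * (a • 1 - x - z) = x * (x * z - z * x) := by
  intro hf
  have L : x * (z * z) + x * (x * z) - a • (x * z) + b • x - a • (x * x) + x * (x * x) = 0 := by
    have h := congrArg (x * ·) hxz
    simpa only [mul_add, mul_sub, mul_smul_comm, mul_one, mul_zero] using h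
  have R : z * (z * x) + x * (z * x) - a • (z * x) + b • x - a • (x * x) + x * (x * x) = 0 := by
    have h := congrArg (· * x) hxz
    simpa only [add_mul, sub_mul, smul_mul_assoc, one_mul, zero_mul, mul_assoc] using h
  have M : z * (z * z) + z * (x * z) - a • (z * z) + b • z - a • (z * x) + z * (x * x) = 0 := by
    have h := congrArg (z * ·) hxz
    simpa only [mul_add, mul_sub, mul_smul_comm, mul_one, mul_zero] using h
  simp only [mul_assoc] at hf
  have h1 : (x * z - z * x) * x = z * (x * z - z * x) := by
    simp only [mul_sub, sub_mul, mul_assoc]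
    linear_combination (norm := abel) R - M + hf
  have h2 : (x * z - z * x) * z = (a • 1 - x - z) * (x * z - z * x) := by
    simp only [mul_sub, sub_mul, mul_assoc, smul_mul_assoc, one_mul, smul_sub]
    linear_combination (norm := abel) L - R
  refine ⟨h1, h2, ?_⟩
  rw [mul_sub, mul_sub, mul_smul_comm, mul_one, h1, h2, sub_mul, sub_mul, smul_mul_assoc, one_mul]
  abel

/-- In degree `2` or `3` equal to the characteristic there is an inseparable element. -/
theorem exists_inseparable_two_three [FiniteDimensional K A] [Algebra.IsCentral K A] (p : ℕ)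
    [Fact p.Prime] [CharP K p] (hA : Module.finrank K A = p ^ 2) (hp23 : p = 2 ∨ p = 3) :
    ∃ v : A, ¬ IsSeparable K v := by
  have hp : p.Prime := Fact.out
  by_contra hcon
  push Not at hcon
  obtain ⟨x, hxK⟩ : ∃ x : A, x ∉ (algebraMap K A).range := by
    by_contra h
    push Not at h
    have htop : (⊥ : Subalgebra K A) = ⊤ := eq_top_iff.2 fun y _ => Algebra.mem_bot.2 (h y)
    have h1 := Subalgebra.finrank_bot (F := K) (E := A)
    rw [htop, ← Subalgebra.finrank_toSubmodule, Algebra.top_toSubmodule, finrank_top, hA,
      Nat.pow_eq_one] at h1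
    exact h1.elim hp.ne_one two_ne_zero
  obtain ⟨y₀, hy₀⟩ := exists_not_commute (K := K) hxK
  have hdeg := natDegree_minpoly_eq_prime hp hA hy₀
  have hsep := hcon x
  have hmon := minpoly.monic (Algebra.IsIntegral.isIntegral (R := K) x)
  obtain ⟨L, iF, iA, ι, a₀, hιa, htopL, ha₀, hL, hrange⟩ := exists_subfield (K := K) x
  have hroot₀ : ((minpoly K x).map (algebraMap K L)).IsRoot a₀ := by
    rw [IsRoot.def, eval_map, ← aeval_def]
    exact ha₀
  -- a split minimal polynomial gives a Galois subfield
  by_cases hsplit : ((minpoly K x).map (algebraMap K L)).Splits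
  · haveI := isGalois_of_splits hsep htopL ha₀ hsplit
    obtain ⟨v, hv⟩ := exists_inseparable p (hL.trans hdeg) hA ι
    exact hv (hcon v)
  obtain ⟨g, hg⟩ := dvd_iff_isRoot.2 hroot₀
  have hgd : g.natDegree + 1 = p := by
    have hm := hmon.map (algebraMap K L)
    have hg0 : g ≠ 0 := by rintro rfl; exact hm.ne_zero (by rw [hg, mul_zero])
    rw [← hdeg, ← natDegree_map (algebraMap K L) (p := minpoly K x), hg,
      natDegree_mul (X_sub_C_ne_zero _) hg0, natDegree_X_sub_C, add_comm]
  rcases hp23 with rfl | rfl
  · -- quadratic: always split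
    refine hsplit ?_
    rw [hg]
    exact (Polynomial.Splits.X_sub_C _).mul (Polynomial.Splits.of_natDegree_le_one (by omega : g.natDegree ≤ 1))
  haveI : CharP A 3 := charP_of_injective_algebraMap (algebraMap K A).injective 3
  set f := minpoly K x
  set a := -f.coeff 2 with ha
  set b := f.coeff 1 with hb
  have hfeval : ∀ z : A, aeval z f = z * z * z - a • (z * z) + b • z + f.coeff 0 • 1 := by
    intro z
    have h3 : f.coeff 3 = 1 := hdeg ▸ hmon.coeff_natDegree
    rw [aeval_eq_sum_range, hdeg, Finset.sum_range_succ, Finset.sum_range_succ, Finset.sum_range_succ,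
      Finset.sum_range_succ, Finset.sum_range_zero, h3, ha, hb]
    simp [pow_succ]
    abel
  have hder : aeval x (derivative f) ≠ 0 := by
    obtain ⟨q₁, q₂, hq⟩ := hsep
    intro h
    have h' := congrArg (aeval x) hq
    rw [map_add, map_mul, map_mul, minpoly.aeval, h, mul_zero, mul_zero, add_zero, map_one] at h'
    exact zero_ne_one h' 
  have hder' : (3 : K) • (x * x) - (2 * a) • x + b • (1 : A) ≠ 0 := by
    intro h
    apply hder
    rw [← h, ha, hb, aeval_eq_sum_range' (n := 3) ((natDegree_derivative_le f).trans_lt (by omega)),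
      Finset.sum_range_succ, Finset.sum_range_succ, Finset.sum_range_succ, Finset.sum_range_zero]
    simp [coeff_derivative, (hdeg ▸ hmon.coeff_natDegree : f.coeff 3 = 1), pow_succ]
    module
  obtain ⟨t, ht⟩ := exists_not_commute (K := K) hxK
  have ht0 : t ≠ 0 := fun h => ht (h ▸ Commute.zero_right x)
  set x' := t * x * t⁻¹ with hx'
  have hx'0 : aeval x' f = 0 := by
    have key : ∀ q : K[X], aeval x' q = t * aeval x q * t⁻¹ := by
      intro q
      induction q using Polynomial.induction_on with
      | C c => simp [← Algebra.commutes, mul_assoc, ht0]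
      | add q r h₁ h₂ => simp [h₁, h₂, mul_add, add_mul]
      | monomial n c h =>
        simp only [pow_succ, ← mul_assoc, map_mul, aeval_X] at h ⊢
        rw [h, hx']
        simp [mul_assoc, ht0]
    rw [key, minpoly.aeval, mul_zero, zero_mul]
  set d := x' - x with hd
  have hd0 : d ≠ 0 := by
    intro h
    apply ht
    rw [sub_eq_zero] at h
    have h2 : x' * t = x * t := by rw [h]
    rw [hx', mul_assoc, inv_mul_cancel₀ ht0, mul_one] at h2
    exact h2.symm
  set z := d * x' * d⁻¹ with hz
  have hrel : z * z + x * z - a • z + b • (1 : A) - a • x + x * x = 0 := by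
    apply mul_right_cancel₀ hd0
    have hzd : z * d = d * x' := by rw [hz, mul_assoc, inv_mul_cancel₀ hd0, mul_one]
    rw [zero_mul]
    simp only [add_mul, sub_mul, smul_mul_assoc, one_mul, mul_assoc, hzd]
    rw [← mul_assoc z, hzd, hd]
    have e := (hfeval x').symm.trans hx'0
    have e' := (hfeval x).symm.trans (minpoly.aeval K x)
    simp only [mul_assoc] at e e'
    simp only [mul_sub, sub_mul, mul_assoc, smul_sub]
    linear_combination (norm := abel) e - e'
  have hzx : z ≠ x := by
    intro h
    apply hder'
    rw [h] at hrel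
    rw [← hrel]
    module
  have hzf : z * z * z - a • (z * z) + b • z = x * x * x - a • (x * x) + b • x := by
    have Rz := congrArg (· * z) hrel
    have L := congrArg (x * ·) hrel
    simp only [add_mul, sub_mul, mul_add, mul_sub, smul_mul_assoc, mul_smul_comm, mul_one, one_mul,
      zero_mul, mul_zero, mul_assoc] at Rz L ⊢
    linear_combination (norm := abel) Rz - L
  obtain ⟨h1, h2, h3⟩ := wedderburn_cubic a b hrel hzf
  by_cases hcomm : Commute x z
  · -- a second root in `K[x]`
    have hzS : z ∈ Algebra.adjoin K ({x} : Set A) := by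
      by_contra hzS
      have hlt : Algebra.adjoin K ({x} : Set A) < Subalgebra.centralizer K ({x} : Set A) := by
        refine lt_of_le_of_ne (Algebra.adjoin_le (Set.singleton_subset_iff.2 ((Subalgebra.mem_centralizer_iff K).2 (by simp))))
          fun h => hzS ?_
        rw [h, Subalgebra.mem_centralizer_iff]
        rintro _ rfl
        exact hcomm.eq
      have hlt' := Submodule.finrank_lt_finrank_of_lt (Subalgebra.toSubmodule.lt_iff_lt.2 hlt)
      rw [Subalgebra.finrank_toSubmodule, Subalgebra.finrank_toSubmodule, ← natDegree_minpoly_eq,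
        hdeg] at hlt'
      obtain ⟨i, hi, hC⟩ := (Nat.dvd_prime_pow hp).1
        (hA ▸ finrank_subalgebra_dvd (Subalgebra.centralizer K ({x} : Set A)))
      rw [hC] at hlt'
      interval_cases i
      · norm_num at hlt'
      · norm_num at hlt'
      · have htop : Subalgebra.centralizer K ({x} : Set A) = ⊤ := by
          rw [← Algebra.toSubmodule_eq_top]
          exact Submodule.eq_top_of_finrank_eq (by rw [Subalgebra.finrank_toSubmodule, hC, hA])
        have hmem : t ∈ Subalgebra.centralizer K ({x} : Set A) := by rw [htop]; exact Algebra.mem_top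
        exact ht ((Subalgebra.mem_centralizer_iff K).1 hmem x rfl)
    rw [← hrange] at hzS
    obtain ⟨z₀, hz₀z⟩ := hzS
    have hz₀ : ((minpoly K x).map (algebraMap K L)).IsRoot z₀ := by
      rw [IsRoot.def, eval_map, ← aeval_def]
      apply ι.toRingHom.injective
      change ι (aeval z₀ f) = ι 0
      rw [← aeval_algHom_apply, show ι z₀ = z from hz₀z, hfeval, hzf, ← hfeval, minpoly.aeval, map_zero]
    rw [hg, root_mul, root_X_sub_C] at hz₀
    obtain ⟨g₁, hg₁⟩ := dvd_iff_isRoot.2
      (hz₀.resolve_left fun h => hzx (by rw [← hιa, ← show ι z₀ = z from hz₀z, h]))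
    refine hsplit ?_
    have hg₁0 : g₁ ≠ 0 := by
      rintro rfl
      rw [hg₁, mul_zero] at hgd
      simp at hgd
    rw [hg₁, natDegree_mul (X_sub_C_ne_zero _) hg₁0, natDegree_X_sub_C] at hgd
    rw [hg, hg₁]
    exact (Polynomial.Splits.X_sub_C _).mul
      ((Polynomial.Splits.X_sub_C _).mul (Polynomial.Splits.of_natDegree_le_one (by omega : g₁.natDegree ≤ 1)))
  · -- Wedderburn's element
    set y := x * z - z * x with hy
    have hy0 : y ≠ 0 := fun h => hcomm (sub_eq_zero.1 h)
    have hyx : ¬ Commute y x := by
      intro h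
      exact hzx (mul_right_cancel₀ hy0 (h1.symm.trans h.eq)).symm.symm
    have hyK : y ∉ (algebraMap K A).range := by
      rintro ⟨c, hc⟩
      exact hyx (hc ▸ Algebra.commute_algebraMap_left c x)
    refine not_isSeparable_of_pow_mem 3 ?_ hyK (hcon y)
    refine mem_range_of_commute hp hA hyx (Commute.self_pow y 3) ?_
    show x * y ^ 3 = y ^ 3 * x
    calc x * y ^ 3 = (x * y) * y * y := by simp [pow_succ, mul_assoc]
      _ = y * ((a • 1 - x - z) * y) * y := by rw [← h3]; simp [mul_assoc]
      _ = y * y * (z * y) := by rw [← h2]; simp [mul_assoc]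
      _ = y ^ 3 * x := by rw [← h1]; simp [pow_succ, mul_assoc]

end Groth.Agent.BddFin
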