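import Mathlib.FieldTheory.Galois.Basic
import Mathlib.FieldTheory.PrimitiveElement
import Mathlib.FieldTheory.IsAlgClosed.AlgebraicClosure
import Mathlib.Algebra.Central.Basic
import Mathlib.Algebra.CharP.Lemmas
import Mathlib.Algebra.Squarefree.Basic
import Mathlib.RingTheory.Adjoin.PowerBasis
import Mathlib.FieldTheory.Minpoly.Field
import Mathlib.LinearAlgebra.FiniteDimensional.Basic
import Mathlib.LinearAlgebra.Dimension.Free
import Mathlib.RingTheory.Polynomial.UniqueFactorization
import Mathlib.GroupTheory.OrderOfElement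

/-!
Finite-dimensional division algebras of prime degree: subalgebras, inseparable elements, elements
normalising a subfield.
-/

universe u v w

namespace Groth.Agent.BddFin

open Polynomial

variable {K : Type u} [Field K] {A : Type v} [DivisionRing A] [Algebra K A]

theorem finrank_subalgebra_dvd [FiniteDimensional K A] (S : Subalgebra K A) :
    Module.finrank K S ∣ Module.finrank K A := by
  letI : DivisionRing S := divisionRingOfFiniteDimensional K S
  exact ⟨Module.finrank S A, (Module.finrank_mul_finrank K S A).symm⟩

/-- In a division algebra of dimension `p ^ 2` two non-commuting elements generate. -/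
theorem eq_top_of_not_commute [FiniteDimensional K A] {p : ℕ} (hp : p.Prime)
    (hA : Module.finrank K A = p ^ 2) (S : Subalgebra K A) {x y : A} (hx : x ∈ S) (hy : y ∈ S)
    (hxy : ¬ Commute x y) : S = ⊤ := by
  rw [← Algebra.toSubmodule_eq_top]
  refine Submodule.eq_top_of_finrank_eq ?_
  rw [Subalgebra.finrank_toSubmodule, hA]
  obtain ⟨i, hi, hS⟩ := (Nat.dvd_prime_pow hp).1 (hA ▸ finrank_subalgebra_dvd S)
  have hxK : x ∉ Set.range (algebraMap K A) := by
    rintro ⟨c, rfl⟩
    exact hxy (Algebra.commute_algebraMap_left c y)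
  have hle : Algebra.adjoin K {x} ≤ S := Algebra.adjoin_le (by simpa using hx)
  obtain ⟨j, hj, hT⟩ :=
    (Nat.dvd_prime_pow hp).1 (hA ▸ finrank_subalgebra_dvd (Algebra.adjoin K ({x} : Set A)))
  have hj0 : j ≠ 0 := by
    rintro rfl
    rw [pow_zero, Subalgebra.finrank_eq_one_iff] at hT
    have hmem := Algebra.self_mem_adjoin_singleton K x
    rw [hT] at hmem
    exact hxK (Algebra.mem_bot.1 hmem)
  have hne : Algebra.adjoin K {x} ≠ S := by
    intro h
    have hy' : y ∈ Algebra.adjoin K ({x} : Set A) := by rw [h]; exact hy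
    exact hxy (Algebra.commute_of_mem_adjoin_self hy')
  have hlt : Module.finrank K (Algebra.adjoin K ({x} : Set A)) < Module.finrank K S := by
    rw [← Subalgebra.finrank_toSubmodule, ← Subalgebra.finrank_toSubmodule S]
    exact Submodule.finrank_lt_finrank_of_lt
      (Subalgebra.toSubmodule.lt_iff_lt.2 (lt_of_le_of_ne hle hne))
  rw [hS, hT, Nat.pow_lt_pow_iff_right hp.one_lt] at hlt
  rw [hS]
  congr 1
  omega

/-- An element commuting with two non-commuting elements is a scalar. -/
theorem mem_range_of_commute [FiniteDimensional K A] [Algebra.IsCentral K A] {p : ℕ} (hp : p.Prime)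
    (hA : Module.finrank K A = p ^ 2) {x y z : A} (hxy : ¬ Commute x y)
    (hx : Commute x z) (hy : Commute y z) : z ∈ (algebraMap K A).range := by
  have h : Subalgebra.centralizer K ({z} : Set A) = ⊤ :=
    eq_top_of_not_commute hp hA _ (Subalgebra.mem_centralizer_iff K |>.2 (by simpa using hx.symm.eq))
      (Subalgebra.mem_centralizer_iff K |>.2 (by simpa using hy.symm.eq)) hxy
  have hz : z ∈ Subalgebra.center K A := by
    rw [Subalgebra.mem_center_iff]
    intro b
    have hb : b ∈ Subalgebra.centralizer K ({z} : Set A) := h ▸ Algebra.mem_top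
    exact ((Subalgebra.mem_centralizer_iff K).1 hb z rfl).symm
  obtain ⟨c, rfl⟩ := Algebra.mem_bot.1 (Algebra.IsCentral.out hz)
  exact ⟨c, rfl⟩

theorem natDegree_minpoly_eq [FiniteDimensional K A] (x : A) :
    (minpoly K x).natDegree = Module.finrank K (Algebra.adjoin K ({x} : Set A)) := by
  have hsurj := AlgHom.rangeRestrict_surjective (aeval (R := K) x)
  have hker : RingHom.ker (aeval (R := K) x).rangeRestrict = Ideal.span {minpoly K x} := by
    ext q
    rw [Ideal.mem_span_singleton, minpoly.dvd_iff, RingHom.mem_ker]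
    exact Subtype.ext_iff
  rw [← finrank_quotient_span_eq_natDegree (f := minpoly K x), Algebra.adjoin_singleton_eq_range_aeval,
    ← hker]
  exact (Ideal.quotientKerAlgEquivOfSurjective hsurj).toLinearEquiv.finrank_eq

theorem natDegree_minpoly_eq_prime [FiniteDimensional K A] {p : ℕ} (hp : p.Prime)
    (hA : Module.finrank K A = p ^ 2) {x y : A} (hxy : ¬ Commute x y) :
    (minpoly K x).natDegree = p := by
  rw [natDegree_minpoly_eq]
  obtain ⟨j, hj, hT⟩ :=
    (Nat.dvd_prime_pow hp).1 (hA ▸ finrank_subalgebra_dvd (Algebra.adjoin K ({x} : Set A)))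
  rcases j with _ | _ | _ | j
  · rw [pow_zero, Subalgebra.finrank_eq_one_iff] at hT
    have hmem := Algebra.self_mem_adjoin_singleton K x
    rw [hT] at hmem
    obtain ⟨c, rfl⟩ := Algebra.mem_bot.1 hmem
    exact absurd (Algebra.commute_algebraMap_left c y) hxy
  · rw [hT, pow_one]
  · refine absurd ?_ hxy
    have htop : Algebra.adjoin K ({x} : Set A) = ⊤ := by
      rw [← Algebra.toSubmodule_eq_top]
      exact Submodule.eq_top_of_finrank_eq (by rw [Subalgebra.finrank_toSubmodule, hT, hA])
    have hy' : y ∈ Algebra.adjoin K ({x} : Set A) := by rw [htop]; exact Algebra.mem_top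
    exact Algebra.commute_of_mem_adjoin_self hy'
  · omega

theorem exists_not_commute [Algebra.IsCentral K A] {x : A}
    (hx : x ∉ (algebraMap K A).range) : ∃ y : A, ¬ Commute x y := by
  by_contra h
  push Not at h
  obtain ⟨c, rfl⟩ := Algebra.mem_bot.1 (Algebra.IsCentral.out
    (Subalgebra.mem_center_iff.2 fun b => ((h b).eq).symm : x ∈ Subalgebra.center K A))
  exact hx ⟨c, rfl⟩

theorem not_isSeparable_of_pow_mem [FiniteDimensional K A] (p : ℕ) [Fact p.Prime] [CharP K p]
    {x : A} (hxp : x ^ p ∈ (algebraMap K A).range) (hx : x ∉ (algebraMap K A).range) :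
    ¬ IsSeparable K x := by
  intro hs
  obtain ⟨c, hc⟩ := hxp
  have hint := Algebra.IsIntegral.isIntegral (R := K) x
  have hdvd : minpoly K x ∣ X ^ p - C c := minpoly.dvd K x (by simp [hc])
  let L := AlgebraicClosure K
  haveI : CharP L p := charP_of_injective_algebraMap (algebraMap K L).injective p
  obtain ⟨g, hg⟩ := IsAlgClosed.exists_pow_nat_eq (algebraMap K L c) (Fact.out : p.Prime).pos
  have h := Polynomial.map_dvd (algebraMap K L) hdvd
  rw [Polynomial.map_sub, Polynomial.map_pow, map_X, map_C, ← hg, C_pow, ← sub_pow_char] at h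
  have hsq : Squarefree ((minpoly K x).map (algebraMap K L)) :=
    (Polynomial.Separable.map hs).squarefree
  have h1 := (hsq.dvd_pow_iff_dvd (Fact.out : p.Prime).ne_zero).1 h
  have hdeg := Polynomial.natDegree_le_of_dvd h1 (X_sub_C_ne_zero g)
  rw [natDegree_X_sub_C, natDegree_map] at hdeg
  have hpos := minpoly.natDegree_pos hint
  exact hx (minpoly.natDegree_eq_one_iff.1 (by omega))

/-- If `x` is non-central with minimal polynomial split and separable in a subfield `L ∋ x`, some
nonzero element carries `x` to a different root. -/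
theorem exists_mul_eq_root_mul [Algebra.IsCentral K A] {L : Type w} [Field L] [Algebra K L]
    (ι : L →ₐ[K] A) {f : K[X]} (hf : f.Monic) (hsep : f.Separable)
    (hsplit : (f.map (algebraMap K L)).Splits) (a : L) (ha : aeval a f = 0)
    (hna : ι a ∉ (algebraMap K A).range) :
    ∃ (r : L) (u : A), r ≠ a ∧ u ≠ 0 ∧ u * ι a = ι r * u := by
  classical
  by_contra hcon
  push Not at hcon
  let j : L →+* Module.End K A := ((Algebra.lmul K A).comp ι).toRingHom
  let R : Module.End K A := LinearMap.mulRight K (ι a)
  have hcomm : ∀ b, Commute (j b) R := fun b => by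
    refine LinearMap.ext fun z => ?_
    simp [j, R, Module.End.mul_apply, mul_assoc]
  let Φ := eval₂RingHom' j R hcomm
  have hker : Φ (f.map (algebraMap K L)) = 0 := by
    refine LinearMap.ext fun z => ?_
    have hΦ : Φ (f.map (algebraMap K L)) = aeval R f := by
      change eval₂ j R (f.map (algebraMap K L)) = _
      rw [eval₂_map, aeval_def]
      congr 1
      ext c
      simp [j, Algebra.algebraMap_eq_smul_one]
    have key : ∀ q : K[X], aeval R q z = z * ι (aeval a q) := by
      intro q
      induction q using Polynomial.induction_on' with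
      | add q₁ q₂ h₁ h₂ => simp [h₁, h₂, mul_add]
      | monomial n c =>
        simp [aeval_monomial, Module.End.mul_apply, R, LinearMap.pow_mulRight, Algebra.smul_def,
          ← mul_assoc, Algebra.commutes]
        rw [mul_assoc, Algebra.commutes, ← mul_assoc]
    rw [hΦ, key, ha]
    simp
  have hfac : (f.map (algebraMap K L)) = ((f.map (algebraMap K L)).roots.map fun r => X - C r).prod :=
    hsplit.eq_prod_roots_of_monic (hf.map _)
  set M := (f.map (algebraMap K L)).roots with hM
  have hmem : a ∈ M := by
    rw [hM, mem_roots (hf.map _).ne_zero, IsRoot.def, eval_map, ← aeval_def]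
    exact ha
  have hnd : M.Nodup := nodup_roots hsep.map
  have hinj : ∀ s : Multiset L, (∀ r ∈ s, r ≠ a) →
      Function.Injective (Φ (s.map fun r => X - C r).prod) := by
    intro s
    induction s using Multiset.induction with
    | empty =>
      intro _
      simpa [Module.End.one_eq_id] using Function.injective_id
    | cons r s ih =>
      intro hs
      rw [Multiset.map_cons, Multiset.prod_cons, map_mul, Module.End.coe_mul]
      refine Function.Injective.comp ?_ (ih fun q hq => hs q (Multiset.mem_cons_of_mem hq))
      refine (injective_iff_map_eq_zero _).2 fun z hz => ?_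
      by_contra hz0
      refine hcon r z (hs r (Multiset.mem_cons_self _ _)) hz0 ?_
      simpa [Φ, j, R, sub_eq_zero] using hz
  have hR : Φ (X - C a) = 0 := by
    refine LinearMap.ext fun z => ?_
    apply hinj (M.erase a) fun r hr => ((Multiset.Nodup.mem_erase_iff hnd).1 hr).1
    rw [LinearMap.zero_apply, map_zero, ← Module.End.mul_apply, ← map_mul]
    have hprod : (f.map (algebraMap K L)) =
        ((M.erase a).map fun r => X - C r).prod * (X - C a) := by
      rw [hfac, ← Multiset.cons_erase hmem, Multiset.map_cons, Multiset.prod_cons, mul_comm]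
      simp
    rw [← hprod, hker]
    rfl
  obtain ⟨z, hz⟩ := exists_not_commute (K := K) hna
  refine hz ?_
  have := LinearMap.congr_fun hR z
  simp [Φ, j, R, sub_eq_zero] at this
  exact this.symm

/-- A Galois subfield of prime degree is normalised by an element inducing a nontrivial
automorphism. -/
theorem exists_conj_galois [FiniteDimensional K A] [Algebra.IsCentral K A] {L : Type w} [Field L]
    [Algebra K L] [IsGalois K L] {p : ℕ} (hp : p.Prime) (hL : Module.finrank K L = p)
    (hA : Module.finrank K A = p ^ 2) (ι : L →ₐ[K] A) :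
    ∃ (σ : L ≃ₐ[K] L) (u : A), σ ≠ 1 ∧ u ≠ 0 ∧ (∀ x, u * ι x = ι (σ x) * u) ∧
      u ∉ (algebraMap K A).range ∧ u ^ p ∈ (algebraMap K A).range := by
  haveI : FiniteDimensional K L := Module.finite_of_finrank_pos (hL ▸ hp.pos)
  obtain ⟨a, ha⟩ := Field.exists_primitive_element K L
  have hint := Algebra.IsIntegral.isIntegral (R := K) a
  have htop : Algebra.adjoin K ({a} : Set L) = ⊤ := by
    rw [← IntermediateField.adjoin_simple_toSubalgebra_of_isAlgebraic hint.isAlgebraic, ha,
      IntermediateField.top_toSubalgebra]
  have hιinj : Function.Injective ι := ι.toRingHom.injective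
  have hna : ι a ∉ (algebraMap K A).range := by
    rintro ⟨c, hc⟩
    rw [← ι.commutes] at hc
    have : Algebra.adjoin K ({a} : Set L) ≤ ⊥ :=
      Algebra.adjoin_le (Set.singleton_subset_iff.2 ⟨c, hιinj hc⟩)
    rw [htop, top_le_iff] at this
    have h1 := Subalgebra.finrank_bot (F := K) (E := L)
    rw [this, ← Subalgebra.finrank_toSubmodule, Algebra.top_toSubmodule, finrank_top, hL] at h1
    exact hp.ne_one h1
  have hirr := minpoly.irreducible hint
  obtain ⟨r, u, hra, hu, hur⟩ := exists_mul_eq_root_mul ι (minpoly.monic hint)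
    (Algebra.IsSeparable.isSeparable K a) (Normal.splits inferInstance a) a (minpoly.aeval K a) hna
  have hr : aeval r (minpoly K a) = 0 := by
    apply hιinj
    rw [map_zero, ← aeval_algHom_apply]
    have key : ∀ q : K[X], u * aeval (ι a) q = aeval (ι r) q * u := by
      intro q
      induction q using Polynomial.induction_on with
      | C c => simp [Algebra.commutes]
      | add q₁ q₂ h₁ h₂ => simp [h₁, h₂, mul_add, add_mul]
      | monomial n c h =>
        simp only [map_mul, aeval_C, map_pow, aeval_X, pow_succ] at h ⊢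
        rw [← mul_assoc (algebraMap K A c), ← mul_assoc u, h, mul_assoc, hur]
        simp [mul_assoc]
    have h := key (minpoly K a)
    rw [aeval_algHom_apply ι a, minpoly.aeval, map_zero, mul_zero] at h
    exact (mul_eq_zero.1 h.symm).resolve_right hu
  obtain ⟨σ, hσ⟩ := Normal.minpoly_eq_iff_mem_orbit (F := K) L |>.1
    (minpoly.eq_of_irreducible_of_monic hirr hr (minpoly.monic hint)).symm
  have hσa : σ a = r := hσ
  have hall : ∀ x, u * ι x = ι (σ x) * u := by
    let E : Subalgebra K L :=
      { carrier := {x | u * ι x = ι (σ x) * u}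
        mul_mem' := fun {x y} hx hy => by
          simp only [Set.mem_ofPred_eq, map_mul] at *
          rw [← mul_assoc, hx, mul_assoc, hy, ← mul_assoc]
        add_mem' := fun {x y} hx hy => by
          simp only [Set.mem_ofPred_eq, map_add] at *
          rw [mul_add, add_mul, hx, hy]
        algebraMap_mem' := fun c => by simp [Algebra.commutes] }
    intro x
    have hE : (⊤ : Subalgebra K L) ≤ E := htop ▸ Algebra.adjoin_le
      (Set.singleton_subset_iff.2 (show u * ι a = ι (σ a) * u by rw [hσa, hur]))
    exact hE Algebra.mem_top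
  have hσ1 : σ ≠ 1 := fun h => hra (by rw [← hσa, h]; rfl)
  have hncomm : ¬ Commute u (ι a) := by
    intro h
    refine hra (hιinj ?_)
    exact mul_right_cancel₀ hu (hur.symm.trans h.eq |>.trans rfl)
  refine ⟨σ, u, hσ1, hu, hall, ?_, ?_⟩
  · rintro ⟨c, rfl⟩
    exact hncomm (Algebra.commute_algebraMap_left c _)
  · have hpow : ∀ (n : ℕ) x, u ^ n * ι x = ι ((σ ^ n) x) * u ^ n := by
      intro n
      induction n with
      | zero => simp
      | succ n ih =>
        intro x
        rw [pow_succ, mul_assoc, hall, ← mul_assoc, ih, mul_assoc, pow_succ]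
        rfl
    refine mem_range_of_commute hp hA hncomm (Commute.self_pow u p) ?_
    have hσp : σ ^ p = 1 := by
      rw [← hL, ← IsGalois.card_aut_eq_finrank K L]
      exact pow_card_eq_one'
    exact ((hpow p a).trans (by rw [hσp]; rfl)).symm

/-- A Galois subfield of degree the characteristic gives an inseparable element. -/
theorem exists_inseparable [FiniteDimensional K A] [Algebra.IsCentral K A] (p : ℕ) [Fact p.Prime]
    [CharP K p] {L : Type w} [Field L] [Algebra K L] [IsGalois K L] (hL : Module.finrank K L = p)
    (hA : Module.finrank K A = p ^ 2) (ι : L →ₐ[K] A) : ∃ x : A, ¬ IsSeparable K x := by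
  obtain ⟨σ, u, -, -, -, hu, hup⟩ := exists_conj_galois Fact.out hL hA ι
  exact ⟨u, not_isSeparable_of_pow_mem p hup hu⟩

end Groth.Agent.BddFin
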