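import Mathlib.Algebra.Polynomial.Laurent
import Mathlib.Algebra.Polynomial.RingDivision
import Mathlib.RingTheory.Polynomial.UniqueFactorization
import Mathlib.RingTheory.GradedAlgebra.HomogeneousLocalization
import Mathlib.RingTheory.MvPolynomial.Homogeneous
import Mathlib.RingTheory.MvPolynomial.Basic
import Mathlib.Algebra.MvPolynomial.Funext
import Mathlib.FieldTheory.IsAlgClosed.AlgebraicClosure
import Mathlib.Tactic.LinearCombination
import Mathlib.Tactic.FieldSimp
import Mathlib.FieldTheory.Normal.Basic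

/-!
The conic complement `Proj K[X,Y] \ V(q)` for an irreducible binary quadratic form `q` as a twisted
form of the multiplicative group: the comparison map to Laurent polynomials.
-/

universe u

namespace Groth.Agent.BddFin

open LaurentPolynomial

theorem laurent_isUnit_iff {L : Type u} [Field L] {p p' : L[T;T⁻¹]} (h : p * p' = 1) :
    ∃ (c : L) (m : ℤ), c ≠ 0 ∧ p = LaurentPolynomial.C c * T m := by
  obtain ⟨n, f, hf⟩ := exists_T_pow p
  obtain ⟨n', f', hf'⟩ := exists_T_pow p'
  have hff : f * f' = Polynomial.X ^ (n + n') := by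
    apply Polynomial.toLaurent_injective
    rw [map_mul, hf, hf', Polynomial.toLaurent_X_pow, mul_mul_mul_comm, h, one_mul, ← T_add]
    push_cast
    rfl
  obtain ⟨i, -, hi⟩ := (dvd_prime_pow Polynomial.prime_X _).1 ⟨f', hff.symm⟩
  obtain ⟨u, hu⟩ := hi.symm
  obtain ⟨c, hc, hcu⟩ := Polynomial.isUnit_iff.1 u.isUnit
  refine ⟨c, (i : ℤ) - n, hc.ne_zero, ?_⟩
  rw [← hu, ← hcu, map_mul, Polynomial.toLaurent_X_pow, Polynomial.toLaurent_C] at hf
  rw [sub_eq_add_neg, T_add, ← mul_assoc, mul_comm (LaurentPolynomial.C c), hf, mul_assoc, ← T_add]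
  simp

theorem C_mul_T_inj {L : Type u} [Field L] {c c' : L} {m m' : ℤ} (hc : c ≠ 0)
    (h : LaurentPolynomial.C c * T m = LaurentPolynomial.C c' * T m') : m = m' ∧ c = c' := by
  rw [← single_eq_C_mul_T, ← single_eq_C_mul_T] at h
  rcases (Finsupp.single_eq_single_iff _ _ _ _).1 (congrArg AddMonoidAlgebra.coeff h) with ⟨hm, hcc⟩ | ⟨h0, -⟩
  · exact ⟨hm, hcc⟩
  · exact absurd h0 hc

/-- The linear form `a (u - 2 x v + x ^ 2 w)`. -/
noncomputable def tw {M : Type*} [CommRing M] (a x u v w : M) : M := a * (u - 2 * x * v + x ^ 2 * w)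

theorem tw_map {M N : Type*} [CommRing M] [CommRing N] (f : M →+* N) (a x u v w : M) :
    f (tw a x u v w) = tw (f a) (f x) (f u) (f v) (f w) := by
  simp [tw, map_ofNat]

theorem tw_mul_tw {M : Type*} [CommRing M] (a A B u v w : M) (hrel : u * w = v * v)
    (hone : a * u - a * (A + B) * v + a * A * B * w = 1) :
    tw a A u v w * tw a B u v w = 1 := by
  simp only [tw]
  linear_combination (a * u - a * (A + B) * v + a * A * B * w + 1) * hone + a ^ 2 * (A - B) ^ 2 * hrel

theorem tw_unique {L M : Type*} [Field L] [CommRing M] [Algebra L M] {a A B : L} (ha : a ≠ 0)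
    (hAB : A ≠ B) {u v w u' v' w' : M}
    (h₁ : tw (algebraMap L M a) (algebraMap L M A) u v w = tw (algebraMap L M a) (algebraMap L M A) u' v' w')
    (h₂ : tw (algebraMap L M a) (algebraMap L M B) u v w = tw (algebraMap L M a) (algebraMap L M B) u' v' w')
    (h₀ : algebraMap L M a * u - algebraMap L M a * (algebraMap L M A + algebraMap L M B) * v
        + algebraMap L M a * algebraMap L M A * algebraMap L M B * w =
      algebraMap L M a * u' - algebraMap L M a * (algebraMap L M A + algebraMap L M B) * v'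
        + algebraMap L M a * algebraMap L M A * algebraMap L M B * w') :
    u = u' ∧ v = v' ∧ w = w' := by
  set c := algebraMap L M a
  set p := algebraMap L M A
  set r := algebraMap L M B
  have hc : IsUnit c := (IsUnit.mk0 a ha).map _
  have hd : IsUnit (p - r) := by
    rw [← map_sub]; exact (IsUnit.mk0 _ (sub_ne_zero.2 hAB)).map _
  simp only [tw] at h₁ h₂
  have e₁ := hc.mul_left_cancel h₁
  have e₂ := hc.mul_left_cancel h₂
  have e₀ : u - (p + r) * v + p * r * w = u' - (p + r) * v' + p * r * w' :=
    hc.mul_left_cancel (by linear_combination h₀)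
  have hw : w = w' := (hd.pow 2).mul_left_cancel (by linear_combination e₁ + e₂ - 2 * e₀)
  subst hw
  have hv : v = v' := hd.mul_left_cancel (by linear_combination -e₁ + e₀)
  subst hv
  exact ⟨by linear_combination e₀, rfl, rfl⟩

section Form

open MvPolynomial

variable {K : Type u} [Field K]

theorem quad_form_eq (q : MvPolynomial (Fin 2) K) (hq : q.IsHomogeneous 2) :
    q = MvPolynomial.C (q.coeff (Finsupp.single 0 2)) * X 0 ^ 2
      + MvPolynomial.C (q.coeff (Finsupp.single 0 1 + Finsupp.single 1 1)) * (X 0 * X 1)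
      + MvPolynomial.C (q.coeff (Finsupp.single 1 2)) * X 1 ^ 2 := by
  classical
  ext m
  have hsum : ∀ d : Fin 2 →₀ ℕ, d.degree = d 0 + d 1 := fun d => by
    rw [Finsupp.degree_eq_sum, Fin.sum_univ_two]
  rw [show (X 0 * X 1 : MvPolynomial (Fin 2) K) =
    monomial (Finsupp.single 0 1 + Finsupp.single 1 1) 1 by simp [X, monomial_mul]]
  simp only [X_pow_eq_monomial, coeff_add, coeff_C_mul, coeff_monomial, mul_ite, mul_one, mul_zero]
  have hext : ∀ n : Fin 2 →₀ ℕ, n = m ↔ n 0 = m 0 ∧ n 1 = m 1 := fun n => by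
    rw [Finsupp.ext_iff, Fin.forall_fin_two]
  simp only [hext, Finsupp.single_apply, Finsupp.coe_add, Pi.add_apply]
  by_cases hd : m 0 + m 1 = 2
  · rcases Nat.lt_or_ge (m 0) 3 with h3 | h3
    swap
    · omega
    interval_cases h0 : m 0
    · have : m = Finsupp.single 1 2 := by
        rw [eq_comm, hext]; simp [h0]; omega
      subst this; simp
    · have : m = Finsupp.single 0 1 + Finsupp.single 1 1 := by
        rw [eq_comm, hext]; simp [h0]; omega
      subst this; simp
    · have : m = Finsupp.single 0 2 := by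
        rw [eq_comm, hext]; simp [h0]; omega
      subst this; simp
  · rw [hq.coeff_eq_zero (by rw [hsum]; exact hd)]
    simp only [Fin.reduceEq, if_true, if_false]
    split_ifs <;> first | omega | simp

/-- An irreducible form has nonzero leading coefficient and no root. -/
theorem quad_form_root (q : MvPolynomial (Fin 2) K) (hq : q.IsHomogeneous 2) (hirr : Irreducible q) :
    q.coeff (Finsupp.single 0 2) ≠ 0 ∧ ∀ r : K, q.coeff (Finsupp.single 0 2) * r ^ 2
      + q.coeff (Finsupp.single 0 1 + Finsupp.single 1 1) * r + q.coeff (Finsupp.single 1 2) ≠ 0 := by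
  set a := q.coeff (Finsupp.single 0 2)
  set b := q.coeff (Finsupp.single 0 1 + Finsupp.single 1 1)
  set c := q.coeff (Finsupp.single 1 2)
  have heq := quad_form_eq q hq
  have hnu : ∀ p : MvPolynomial (Fin 2) K, MvPolynomial.constantCoeff p = 0 → ¬ IsUnit p :=
    fun p hp hu => not_isUnit_zero (hp ▸ hu.map MvPolynomial.constantCoeff)
  constructor
  · intro ha
    rcases hirr.isUnit_or_isUnit (a := X 1) (b := MvPolynomial.C b * X 0 + MvPolynomial.C c * X 1)
      (by rw [heq]; simp [a, b, c] at *; simp [ha]; ring) with h | h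
    · exact hnu _ (by simp) h
    · exact hnu _ (by simp) h
  · intro r hr
    have hc : c = -(a * r ^ 2) - b * r := by linear_combination hr
    rcases hirr.isUnit_or_isUnit (a := X 0 - MvPolynomial.C r * X 1)
      (b := MvPolynomial.C a * X 0 + MvPolynomial.C (b + a * r) * X 1)
      (by rw [heq, show q.coeff (Finsupp.single 1 2) = -(a * r ^ 2) - b * r from hc]; simp only [map_add, map_sub, map_neg, map_mul, map_pow]; ring) with h | h
    · exact hnu _ (by simp) h
    · exact hnu _ (by simp) h

theorem eval_smul_homogeneous {L : Type*} [CommRing L] [Algebra K L] {f : MvPolynomial (Fin 2) K}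
    {n : ℕ} (hf : f.IsHomogeneous n) (c x y : L) :
    MvPolynomial.aeval ![c * x, c * y] f = c ^ n * MvPolynomial.aeval ![x, y] f := by
  rw [aeval_def, aeval_def, eval₂_eq', eval₂_eq', Finset.mul_sum]
  refine Finset.sum_congr rfl fun d hd => ?_
  have hdeg : d 0 + d 1 = n := by
    rw [← hf (mem_support_iff.1 hd)]
    simp [Finsupp.weight_apply, Finsupp.sum_fintype, Fin.sum_univ_two]
  simp [Fin.prod_univ_two, mul_pow, ← hdeg, pow_add]
  ring

end Form

end Groth.Agent.BddFin
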